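import Groth.Agent.PropsBasic.AmpleBasis
import Groth.Agent.PicAux.FreeBasis
import Mathlib.Order.Preorder.Finite

/-!
# Finite sets of points in loci of sections of an ample invertible module
-/

universe u

open CategoryTheory AlgebraicGeometry Opposite TopologicalSpace

set_option autoImplicit false
set_option backward.isDefEq.respectTransparency.types false

namespace Groth.PropsBasic.Ample

open Groth.PicAux

variable {X : Scheme.{u}} {L : X.Modules}

theorem exists_affine_gloc_nhd (hA : CohB1.IsAmple L) {O : X.Opens} {z : X} (hz : z ∈ O) :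
    ∃ (n : ℕ) (t : Γ(CohB1.tensorPow L (n + 1), ⊤)),
      z ∈ gloc t ∧ gloc t ≤ O ∧ IsAffineOpen (gloc t) := by
  obtain ⟨m, a, hza, ha⟩ := hA.2.2 z
  obtain ⟨_, ⟨n, s, rfl⟩, hzs, hsO⟩ := Opens.isBasis_iff_nbhd.1 (isBasis_of_isAmple hA)
    (show z ∈ O ⊓ CohB1.genLocus _ a from ⟨hz, hza⟩)
  have h := isAffineOpen_gloc_inf (isInvertible_tensorPow hA.1 (n + 1)) s ha
  rw [inf_eq_left.2 (hsO.trans inf_le_right)] at h
  rw [genLocus_eq_gloc] at h hzs hsO
  exact ⟨n, gsec s, hzs, hsO.trans inf_le_left, h⟩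

theorem exists_common_power_finset (hL : PicF.IsInvertible L) {ι : Type*} (M : Finset ι)
    (n : ι → ℕ) (t : ∀ i, Γ(CohB1.tensorPow L (n i + 1), ⊤)) :
    ∃ N : ℕ, ∀ i ∈ M, ∃ s : Γ(CohB1.tensorPow L (N + 1), ⊤), gloc s = gloc (t i) := by
  classical
  induction M using Finset.induction with
  | empty => exact ⟨0, by simp⟩
  | insert a M _ ih =>
    obtain ⟨N, hN⟩ := ih
    refine ⟨N * n a + N + n a, fun i hi => ?_⟩
    have key : ∀ A B : ℕ, A = B → ∀ c : Γ(CohB1.tensorPow L A, ⊤),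
        ∃ c' : Γ(CohB1.tensorPow L B, ⊤), gloc c' = gloc c := by
      rintro A _ rfl c
      exact ⟨c, rfl⟩
    rcases Finset.mem_insert.1 hi with rfl | hi
    · obtain ⟨s', hs'⟩ := exists_gloc_transport (n i + 1) (N + 1) (powSec (t i) (N + 1))
      rw [gloc_powSec (isInvertible_tensorPow hL _) _ (Nat.succ_pos _)] at hs'
      obtain ⟨s, hs⟩ := key _ (N * n i + N + n i + 1) (by ring) s'
      exact ⟨s, hs.trans hs'⟩
    · obtain ⟨s₀, hs₀⟩ := hN i hi
      obtain ⟨s', hs'⟩ := exists_gloc_transport (N + 1) (n a + 1) (powSec s₀ (n a + 1))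
      rw [gloc_powSec (isInvertible_tensorPow hL _) _ (Nat.succ_pos _)] at hs'
      obtain ⟨s, hs⟩ := key _ (N * n a + N + n a + 1) (by ring) s'
      exact ⟨s, hs.trans (hs'.trans hs₀)⟩

/-- Every finite set of points of an open lies in an affine `X_t` inside that open. -/
theorem exists_affine_gloc_finite (hA : CohB1.IsAmple L) (Z : Set X) (hZ : Z.Finite) (U : X.Opens)
    (hZU : Z ⊆ U) :
    ∃ (N : ℕ) (t : Γ(CohB1.tensorPow L (N + 1), ⊤)),
      Z ⊆ gloc t ∧ gloc t ≤ U ∧ IsAffineOpen (gloc t) := by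
  classical
  -- the points of `Z` without proper specialization in `Z`
  let Mset : Set X := {z ∈ Z | ∀ w ∈ Z, z ⤳ w → z = w}
  have hMfin : Mset.Finite := hZ.subset fun z hz => hz.1
  let M := hMfin.toFinset
  have hM : ∀ z ∈ Z, ∃ w ∈ M, z ⤳ w := fun z hz => by
    obtain ⟨w, ⟨hwZ, hzw⟩, hmin⟩ := (hZ.subset (Set.sep_subset Z (z ⤳ ·))).exists_minimalFor
      (fun w => closure ({w} : Set X)) {w ∈ Z | z ⤳ w} ⟨z, hz, specializes_rfl⟩
    refine ⟨w, hMfin.mem_toFinset.2 ⟨hwZ, fun v hv hwv => ?_⟩, hzw⟩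
    have h1 : closure ({v} : Set X) ⊆ closure {w} := specializes_iff_closure_subset.1 hwv
    exact (hwv.antisymm (specializes_iff_closure_subset.2 (hmin ⟨hv, hzw.trans hwv⟩ h1))).eq
  -- separating neighbourhoods
  have hO : ∀ z : M, ∃ (n : ℕ) (t : Γ(CohB1.tensorPow L (n + 1), ⊤)), z.1 ∈ gloc t ∧
      gloc t ≤ U ∧ IsAffineOpen (gloc t) ∧ ∀ w ∈ M, w ≠ z.1 → w ∉ gloc t := by
    intro z
    have hzM := hMfin.mem_toFinset.1 z.2
    let C : Set X := ⋃ w ∈ (↑(M.erase z.1) : Set X), closure {w}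
    have hC : IsClosed C := (M.erase z.1).finite_toSet.isClosed_biUnion fun _ _ => isClosed_closure
    have hzC : z.1 ∉ C := by
      intro hz
      obtain ⟨w, hw, hzw⟩ := Set.mem_iUnion₂.1 hz
      obtain ⟨hne, hwM⟩ := Finset.mem_erase.1 (Finset.mem_coe.1 hw)
      exact hne ((hMfin.mem_toFinset.1 hwM).2 z.1 hzM.1 (specializes_iff_mem_closure.2 hzw))
    obtain ⟨n, t, hzt, ht, hta⟩ := exists_affine_gloc_nhd hA
      (O := U ⊓ ⟨Cᶜ, hC.isOpen_compl⟩) ⟨hZU hzM.1, hzC⟩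
    refine ⟨n, t, hzt, ht.trans inf_le_left, hta, fun w hw hne hwt => (ht hwt).2 ?_⟩
    exact Set.mem_iUnion₂.2 ⟨w, Finset.mem_coe.2 (Finset.mem_erase.2 ⟨hne, hw⟩),
      subset_closure (Set.mem_singleton w)⟩
  choose n t hzt htU hta hsep using hO
  obtain ⟨N, hN⟩ := exists_common_power_finset hA.1 Finset.univ n t
  choose s hs using fun z => hN z (Finset.mem_univ z)
  have hI : PicF.IsInvertible (CohB1.tensorPow L (N + 1)) := isInvertible_tensorPow hA.1 _
  let σ : Γ(CohB1.tensorPow L (N + 1), ⊤) := ∑ z : M, s z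
  -- coefficients in a chart
  have chart : ∀ x : X, ∃ (V : X.Opens) (hx : x ∈ V) (c : M → Γ(X, V)),
      (∀ z, x ∈ gloc (s z) ↔ (X.evaluation V x hx) (c z) ≠ 0) ∧
      (x ∈ gloc σ ↔ ∑ z, (X.evaluation V x hx) (c z) ≠ 0) := by
    intro x
    obtain ⟨V, e, -, hx, he⟩ := exists_affine_gen_mem hI x
    choose c hc using fun z : M => he.exists_coeff le_rfl (res _ (le_top : V ≤ ⊤) (s z))
    simp only [res_self] at hc
    have hσ : res _ (le_top : V ≤ ⊤) σ = (∑ z, c z) • e := by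
      rw [res_sum, Finset.sum_smul]
      exact Finset.sum_congr rfl fun z _ => hc z
    refine ⟨V, hx, c, fun z => ?_, ?_⟩
    · rw [X.evaluation_ne_zero_iff_mem_basicOpen, ← gloc_inf_eq_basicOpen he (hc z)]
      exact ⟨fun h => ⟨h, hx⟩, fun h => h.1⟩
    · rw [← map_sum, X.evaluation_ne_zero_iff_mem_basicOpen, ← gloc_inf_eq_basicOpen he hσ]
      exact ⟨fun h => ⟨h, hx⟩, fun h => h.1⟩
  have hMσ : ∀ w ∈ M, w ∈ gloc σ := fun w hw => by
    obtain ⟨V, hx, c, hc, hcσ⟩ := chart w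
    rw [hcσ, Finset.sum_eq_single ⟨w, hw⟩ (fun z _ hz => not_not.1 fun h0 => ?_)
      (fun h => absurd (Finset.mem_univ _) h)]
    · exact (hc _).1 (by rw [hs]; exact hzt ⟨w, hw⟩)
    · exact hsep z w hw (fun hh => hz (Subtype.ext hh.symm)) (hs z ▸ (hc z).2 h0)
  have hle : gloc σ ≤ ⨆ z, gloc (s z) := fun x hx => by
    obtain ⟨V, hxV, c, hc, hcσ⟩ := chart x
    obtain ⟨z, -, hz⟩ := Finset.exists_ne_zero_of_sum_ne_zero (hcσ.1 hx)
    exact Opens.mem_iSup.2 ⟨z, (hc z).2 hz⟩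
  refine ⟨N, σ, fun z hz => ?_, hle.trans (iSup_le fun z => hs z ▸ htU z), ?_⟩
  · obtain ⟨w, hw, hzw⟩ := hM z hz
    exact hzw.mem_open (gloc σ).isOpen (hMσ w hw)
  have he := gen_gloc σ (le_refl (gloc σ))
  choose f hf using fun z : M => he.exists_coeff le_rfl (res _ (le_top : gloc σ ≤ ⊤) (s z))
  simp only [res_self] at hf
  refine isAffineOpen_of_isAffineOpen_basicOpen _ (Set.range f) ?_ ?_
  · have h1 : ∑ z, f z = 1 := by
      refine he.smul_inj le_rfl ?_
      rw [res_self, one_smul, Finset.sum_smul]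
      refine (Finset.sum_congr rfl fun z _ => (hf z).symm).trans ?_
      exact (res_sum _ _ _).symm
    rw [Ideal.eq_top_iff_one, ← h1]
    exact Ideal.sum_mem _ fun z _ => Ideal.subset_span ⟨z, rfl⟩
  · rintro _ ⟨z, rfl⟩
    rw [← gloc_inf_eq_basicOpen he (hf z), inf_comm]
    refine isAffineOpen_gloc_inf hI (homOfSection σ) ?_
    rw [hs]
    exact hta z

/-- Every finite set of points lies in an affine open. -/
theorem exists_affine_finite (hA : CohB1.IsAmple L) (Z : Set X) (hZ : Z.Finite) :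
    ∃ U : X.Opens, IsAffineOpen U ∧ Z ⊆ U := by
  obtain ⟨N, t, h1, -, h3⟩ := exists_affine_gloc_finite hA Z hZ ⊤ (fun _ _ => trivial)
  exact ⟨_, h3, h1⟩

end Groth.PropsBasic.Ample
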