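import Groth.Agent.Pi1Ample.SectionConnected
import Groth.Agent.HensPair.SteinNormalization
import Groth.Agent.CohFin.ProjFinite

/-!
# Connectedness of inverse images by proper morphisms of complements of affine opens
-/

universe u

set_option autoImplicit false
set_option backward.isDefEq.respectTransparency false
set_option linter.style.haveILetI false

open CategoryTheory CategoryTheory.Limits AlgebraicGeometry TopologicalSpace

namespace Groth.Pi1Ample

/-- Inverse images of connected closed sets by closed surjections with connected fibres. -/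
theorem isConnected_preimage_of_isClosedMap {α β : Type*} [TopologicalSpace α] [TopologicalSpace β]
    {t : α → β} (htc : Continuous t) (ht : IsClosedMap t) (hfib : ∀ y, _root_.IsConnected (t ⁻¹' {y}))
    {S : Set β} (hS : IsClosed S) (hSc : _root_.IsConnected S) : _root_.IsConnected (t ⁻¹' S) := by
  have hsurj : Function.Surjective t := fun y => (hfib y).1
  refine ⟨hSc.1.preimage hsurj, isPreconnected_closed_iff.2 fun A B hA hB hcov hAne hBne => ?_⟩
  have hA' : IsClosed (t '' (t ⁻¹' S ∩ A)) := ht _ ((hS.preimage htc).inter hA)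
  have hB' : IsClosed (t '' (t ⁻¹' S ∩ B)) := ht _ ((hS.preimage htc).inter hB)
  have hc : S ⊆ t '' (t ⁻¹' S ∩ A) ∪ t '' (t ⁻¹' S ∩ B) := fun y hy => by
    obtain ⟨x, rfl⟩ := hsurj y
    rcases hcov (show x ∈ t ⁻¹' S from hy) with h | h
    · exact Or.inl ⟨x, ⟨hy, h⟩, rfl⟩
    · exact Or.inr ⟨x, ⟨hy, h⟩, rfl⟩
  obtain ⟨a, ha⟩ := hAne
  obtain ⟨b, hb⟩ := hBne
  obtain ⟨y, hy, ⟨p, hp, hpy⟩, q, hq, hqy⟩ := isPreconnected_closed_iff.1 hSc.2 _ _ hA' hB' hc
    ⟨t a, ha.1, a, ha, rfl⟩ ⟨t b, hb.1, b, hb, rfl⟩
  have hsub : t ⁻¹' {y} ⊆ t ⁻¹' S := fun z hz => by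
    rw [Set.mem_preimage, Set.mem_singleton_iff.1 hz]; exact hy
  obtain ⟨z, hz, hzAB⟩ := isPreconnected_closed_iff.1 (hfib y).2 A B hA hB (hsub.trans hcov)
    ⟨p, hpy, hp.2⟩ ⟨q, hqy, hq.2⟩
  exact ⟨z, hsub hz, hzAB⟩

variable {k : Type u} [Field k] {X : Scheme.{u}}

/-- Inverse images by proper morphisms with image of dimension at least two. -/
theorem isConnected_preimage_of_proper {C : Scheme.{u}} [IsIntegral C]
    (p : X ⟶ Spec (CommRingCat.of k)) [IsProper p] (h : C ⟶ X) [IsProper h]
    (hdim : 2 ≤ topologicalKrullDim ↥(Set.range h.base)) {U : X.Opens} (hU : IsAffineOpen U) :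
    _root_.IsConnected (h.base ⁻¹' ((U : Set X)ᶜ)) := by
  haveI : IsNoetherianRing (CommRingCat.of k) := inferInstanceAs (IsNoetherianRing k)
  haveI : IsLocallyNoetherian X := LocallyOfFiniteType.isLocallyNoetherian p
  let π := h.fromNormalization
  let t := h.toNormalization
  have htπ : t ≫ π = h := h.toNormalization_fromNormalization
  haveI : IsFinite π := HensPair.isFinite_fromNormalization h CohFin.projFinite
  haveI : GeometricallyConnected t := HensPair.geometricallyConnected_toNormalization h CohFin.projFinite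
  haveI : IsProper t := HensPair.isProper_toNormalization h
  haveI : IsIntegral h.normalization := inferInstance
  have ht : ∀ c, π (t c) = h c := fun c => by rw [← Scheme.Hom.comp_apply, htπ]
  have hrange : Set.range π.base = Set.range h.base := by
    refine Set.Subset.antisymm ?_ fun _ ⟨c, hc⟩ => ⟨t c, (ht c).trans hc⟩
    rintro _ ⟨n, rfl⟩
    obtain ⟨c, rfl⟩ := t.surjective n
    exact ⟨c, (ht c).symm⟩
  have hcl : IsClosed (Set.range h.base) := h.isClosedMap.isClosed_range
  let π' : h.normalization → Set.range h.base := fun n => ⟨π n, hrange ▸ ⟨n, rfl⟩⟩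
  haveI : QuasiSober ↥(Set.range h.base) := hcl.isClosedEmbedding_subtypeVal.quasiSober
  have hπ's : Function.Surjective π' := fun z => by
    obtain ⟨n, hn⟩ := hrange.ge z.2
    exact ⟨n, Subtype.ext hn⟩
  have hπ'closed : IsClosedMap π' := fun S hS =>
    (hcl.isClosedEmbedding_subtypeVal.isClosed_iff_image_isClosed).2 (by
      rw [← Set.image_comp]; exact π.isClosedMap S hS)
  have hN : 2 ≤ topologicalKrullDim h.normalization :=
    hdim.trans (Groth.Agent.S7552.result π' (π.continuous.subtype_mk _) hπ's (Or.inl hπ'closed.specializingMap))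
  have hconn := isConnected_preimage_of_finite p π hN hU
  rw [show h.base ⁻¹' ((U : Set X)ᶜ) = t.base ⁻¹' (π.base ⁻¹' ((U : Set X)ᶜ)) from
    Set.ext fun c => by simp only [Set.mem_preimage, ht]]
  exact isConnected_preimage_of_isClosedMap t.continuous t.isClosedMap
    (fun y => t.isConnected_preimage_singleton y) (U.2.isClosed_compl.preimage π.continuous) hconn

end Groth.Pi1Ample
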